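import Groth.Agent.HLVTLib.Reduce
import Groth.Agent.HLVTLib.Connected
import Groth.Agent.HLVTLib.Completion
import Groth.Agent.LocCohLib.TopArtinian
import Groth.Agent.LocCohLib.MaxIdeal
import Groth.Agent.LocCohLib.ExtComp
import Groth.Agent.LocCohLib.Depth
import Groth.Agent.S5158
import Groth.Agent.GorLib.FiniteLength
import Groth.Agent.MatlisLib.Basic

/-! The top local cohomology of a finite module is cofinite. -/

set_option autoImplicit false
universe u

open CategoryTheory IsLocalRing Limits TensorProduct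

namespace Groth.Agent.TopCofinLib

open HLVTLib LocCohLib

variable {R : Type u} [CommRing R] [IsLocalRing R] [IsNoetherianRing R]

/-- Over a complete ring, an ideal complementary to `I` kills the top local cohomology. -/
theorem exists_killer [IsAdicComplete (maximalIdeal R) R] (I : Ideal R) (n : ℕ) (M : Type u) [AddCommGroup M]
    [Module R M] [Module.Finite R M] :
    Module.supportDim R M ≤ n →
      ∃ J : Ideal R, maximalIdeal R ≤ (I ⊔ J).radical ∧
        ∀ a ∈ J, ∀ x : (localCohomology I n).obj (ModuleCat.of R M), a • x = 0 := by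
  refine IsNoetherianRing.induction_on_isQuotientEquivQuotientPrime (A := R) (M := M) inferInstance
    (motive := fun N _ _ _ => Module.supportDim R N ≤ n → ∃ J : Ideal R, maximalIdeal R ≤ (I ⊔ J).radical ∧
      ∀ a ∈ J, ∀ x : (localCohomology I n).obj (ModuleCat.of R N), a • x = 0) ?_ ?_ ?_
  · intro N _ _ _ _ _
    haveI := ModuleCat.subsingleton_of_isZero
      ((localCohomology I n).map_isZero (ModuleCat.isZero_of_subsingleton (ModuleCat.of R N)))
    exact ⟨⊤, by simp [Ideal.radical_top], fun _ _ _ => Subsingleton.elim _ _⟩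
  · intro N _ _ _ P e hN
    haveI := P.2
    rw [Module.supportDim_eq_of_equiv e, Module.supportDim_quotient_eq_ringKrullDim] at hN
    suffices h : ∃ J : Ideal R, maximalIdeal R ≤ (I ⊔ J).radical ∧
        ∀ a ∈ J, ∀ x : (localCohomology I n).obj (ModuleCat.of R (R ⧸ P.asIdeal)), a • x = 0 by
      obtain ⟨J, hJ, hkill⟩ := h
      let φ := ((localCohomology I n).mapIso e.toModuleIso).toLinearEquiv
      exact ⟨J, hJ, fun a ha x => φ.injective (by rw [map_smul, hkill a ha, map_zero])⟩
    by_cases hI : maximalIdeal R ≤ (I ⊔ P.asIdeal).radical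
    · refine ⟨P.asIdeal, hI, fun a ha x => ?_⟩
      rw [← map_smul_id]
      have h0 : a • 𝟙 (ModuleCat.of R (R ⧸ P.asIdeal)) = 0 := by
        apply ModuleCat.hom_ext
        refine LinearMap.ext fun y => ?_
        obtain ⟨y, rfl⟩ := Submodule.Quotient.mk_surjective _ y
        exact (Submodule.Quotient.mk_eq_zero _).mpr (P.asIdeal.mul_mem_right y ha)
      rw [h0, Functor.map_zero]
      rfl
    · haveI : Subsingleton ((localCohomology I n).obj (ModuleCat.of R (R ⧸ P.asIdeal)) : Type u) := by
        by_cases hd : ringKrullDim (R ⧸ P.asIdeal) = n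
        · refine subsingleton_H_quot_prime I P.asIdeal hd ?_
          by_contra hlt
          refine hI ?_
          have hne : I ⊔ P.asIdeal ≠ ⊤ := fun htop => hI (by simp [htop, Ideal.radical_top])
          rw [radical_eq_of_dim_le_zero hne]
          obtain ⟨e', he'⟩ := exists_nat_dim hne
          rw [he'] at hlt ⊢
          norm_cast at hlt ⊢
          omega
        · refine subsingleton_of_supportDim_lt I _ n ?_
          rw [Module.supportDim_quotient_eq_ringKrullDim]
          exact lt_of_le_of_ne hN hd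
      exact ⟨⊤, by simp [Ideal.radical_top], fun _ _ _ => Subsingleton.elim _ _⟩
  · intro N₁ _ _ _ N₂ _ _ _ N₃ _ _ _ f g hf hg hfg H1 H3 hN
    obtain ⟨J₁, hJ₁, k₁⟩ := H1 ((Module.supportDim_le_of_injective f hf).trans hN)
    obtain ⟨J₃, hJ₃, k₃⟩ := H3 ((Module.supportDim_le_of_surjective g hg).trans hN)
    let T : ShortComplex (ModuleCat.{u} R) :=
      ShortComplex.mk (ModuleCat.ofHom f) (ModuleCat.ofHom g) (ModuleCat.hom_ext hfg.linearMap_comp_eq_zero)
    have hT : T.ShortExact :=
      { exact := (ShortComplex.ShortExact.moduleCat_exact_iff_function_exact _).2 hfg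
        mono_f := (ModuleCat.mono_iff_injective _).2 hf
        epi_g := (ModuleCat.epi_iff_surjective _).2 hg }
    refine ⟨J₁ * J₃, ?_, fun a ha x => ?_⟩
    · intro y hy
      obtain ⟨p, hp⟩ := hJ₁ hy
      obtain ⟨q, hq⟩ := hJ₃ hy
      refine ⟨p + q, ?_⟩
      rw [pow_add]
      have h := Ideal.mul_mem_mul hp hq
      have hle : (I ⊔ J₁) * (I ⊔ J₃) ≤ I ⊔ J₁ * J₃ := by
        rw [Ideal.sup_mul, Ideal.mul_sup J₁]
        exact sup_le (Ideal.mul_le_left.trans le_sup_left)
          (sup_le (Ideal.mul_le_right.trans le_sup_left) le_sup_right)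
      exact hle h
    · induction ha using Submodule.mul_induction_on' with
      | mem_mul_mem a ha b hb =>
        have h0 : ((localCohomology I n).map T.g).hom (b • x) = 0 := by
          rw [map_smul]
          exact k₃ b hb _
        obtain ⟨w, hw⟩ := exists_of_map_g_eq_zero I hT n (b • x) h0
        rw [mul_smul, ← hw, ← map_smul, show a • w = 0 from k₁ a ha w, map_zero]
      | add a _ b _ ha hb => rw [add_smul, ha, hb, add_zero]

/-- `Ext` of a finite module into an Artinian one is Artinian. -/
theorem isArtinian_ext (n : ℕ) : ∀ (N M : ModuleCat.{u} R) [Module.Finite R N] [IsArtinian R M],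
    IsArtinian R (Abelian.Ext.{u} N M n) := by
  induction n with
  | zero =>
    intro N M _ _
    obtain ⟨m, f, hf⟩ := Module.Finite.exists_fin' R N
    haveI : IsArtinian R (N →ₗ[R] M) := isArtinian_of_injective
      ((LinearMap.pi fun i : Fin m => LinearMap.applyₗ (f (Pi.single i 1))) : (N →ₗ[R] M) →ₗ[R] (Fin m → M))
      fun a b hab => LinearMap.ext fun z => by
        obtain ⟨v, rfl⟩ := hf z
        have : a.comp f = b.comp f := LinearMap.pi_ext' fun i => LinearMap.ext_ring (congrFun hab i)
        exact LinearMap.congr_fun this v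
    exact isArtinian_of_linearEquiv ((ModuleCat.homLinearEquiv (S := R)).symm.trans (Abelian.Ext.linearEquiv₀ (R := R)).symm)
  | succ n ih =>
    intro N M _ _
    obtain ⟨m, f, hf⟩ := Module.Finite.exists_fin' R N
    have hS := LinearMap.shortExact_shortComplexKer hf
    haveI : Module.Finite R f.shortComplexKer.X₁ := inferInstanceAs (Module.Finite R (LinearMap.ker f))
    haveI := ih f.shortComplexKer.X₁ M
    haveI : Projective f.shortComplexKer.X₂ := (IsProjective.iff_projective (R := R) (Fin m → R)).mp inferInstance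
    refine isArtinian_of_surjective _ (hS.extClass.precompOfLinear R M (add_comm 1 n)) fun e => ?_
    exact Abelian.Ext.contravariant_sequence_exact₃ hS M e (by apply Abelian.Ext.eq_zero_of_projective) (add_comm 1 n)

/-- The main theorem, for Mathlib's `Abelian.Ext`. -/
theorem isFiniteLength_ext (I : Ideal R) (M : Type u) [AddCommGroup M] [Module R M] [Module.Finite R M] (n : ℕ)
    (hn : Module.supportDim R M = n) (i : ℕ) :
    IsFiniteLength R (Abelian.Ext.{u} (ModuleCat.of R (R ⧸ I))
      (ModuleCat.of R ((localCohomology I n).obj (ModuleCat.of R M) : Type u)) i) := by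
  haveI : Nontrivial M := by
    by_contra h
    rw [not_nontrivial_iff_subsingleton] at h
    rw [Module.supportDim_eq_bot_of_subsingleton] at hn
    exact WithBot.bot_ne_coe hn
  let X : Type u := ((localCohomology I n).obj (ModuleCat.of R M) : Type u)
  haveI : IsArtinian R X := isArtinian_H_top I M n hn
  let E := Abelian.Ext.{u} (ModuleCat.of R (R ⧸ I)) (ModuleCat.of R X) i
  haveI : IsArtinian R E := isArtinian_ext i _ _
  -- the completion
  let B := Cpl R
  have htor : LocCoh.IsPowerTorsion (maximalIdeal R) X :=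
    ((MatlisLib.isArtinian_iff (R := R) X).mp inferInstance).1
  let e : X ≃ₗ[R] B ⊗[R] X := LinearEquiv.ofBijective (TensorProduct.mk R B X 1) (S5158.result R X htor)
  let μ : B → (ModuleCat.of R X ⟶ ModuleCat.of R X) := fun b =>
    ModuleCat.ofHom (e.symm.toLinearMap ∘ₗ ((b • LinearMap.id : B ⊗[R] X →ₗ[B] B ⊗[R] X).restrictScalars R) ∘ₗ e.toLinearMap)
  have hμ : ∀ b x, e ((μ b).hom x) = b • e x := fun b x => e.apply_symm_apply _
  have hμadd : ∀ b c, μ (b + c) = μ b + μ c := fun b c => by
    ext x
    refine e.injective ?_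
    rw [ModuleCat.hom_add, LinearMap.add_apply, map_add, hμ, hμ, hμ, add_smul]
  have hμalg : ∀ r : R, μ (algebraMap R B r) = r • 𝟙 _ := fun r => by
    ext x
    refine e.injective ?_
    rw [hμ, algebraMap_smul]
    exact (map_smul e r x).symm
  have hμmul : ∀ b c, μ (b * c) = μ c ≫ μ b := fun b c => by
    ext x
    refine e.injective ?_
    rw [hμ, ModuleCat.comp_apply, hμ, hμ, mul_smul]
  -- the complementary ideal
  let I' := I.map (algebraMap R B)
  haveI : Module.Finite B (B ⊗[R] M) := inferInstance
  have hdim : Module.supportDim B (B ⊗[R] M) ≤ n := by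
    rw [← hn, Module.supportDim_eq_ringKrullDim_quotient_annihilator,
      Module.supportDim_eq_ringKrullDim_quotient_annihilator, ← dim_quot_cpl (Module.annihilator R M)]
    refine dim_quot_anti (Ideal.map_le_iff_le_comap.mpr fun a ha => Module.mem_annihilator.mpr fun z => ?_)
    induction z using TensorProduct.induction_on with
    | zero => exact smul_zero _
    | tmul b m => rw [← TensorProduct.tmul_smul, Module.mem_annihilator.mp ha m, TensorProduct.tmul_zero]
    | add a b ha hb => rw [smul_add, ha, hb, add_zero]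
  obtain ⟨J, hJ, hkill⟩ := exists_killer I' n (B ⊗[R] M) hdim
  obtain ⟨φ⟩ := exists_baseChange B I M n
  have hμJ : ∀ b ∈ J, μ b = 0 := fun b hb => by
    ext x
    refine e.injective (φ.injective ?_)
    rw [hμ, map_smul, hkill b hb]
    exact ((congrArg φ (map_zero e)).trans (map_zero φ)).symm
  -- the action on `Ext`
  let A : B → E → E := fun b α => α.comp (Abelian.Ext.mk₀ (μ b)) (add_zero i)
  have hIE : ∀ r ∈ I, ∀ α : E, r • α = 0 := fun r hr α => smul_eq_zero_of_annihilates (fun y => by
    obtain ⟨y, rfl⟩ := Submodule.Quotient.mk_surjective _ y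
    exact (Submodule.Quotient.mk_eq_zero _).mpr (I.mul_mem_right y hr)) α
  have hA : ∀ b ∈ I' ⊔ J, ∀ α : E, A b α = 0 := by
    intro b hb α
    obtain ⟨b₁, hb₁, b₂, hb₂, rfl⟩ := Submodule.mem_sup.mp hb
    change α.comp (Abelian.Ext.mk₀ (μ (b₁ + b₂))) (add_zero i) = 0
    rw [hμadd, hμJ b₂ hb₂, add_zero]
    clear hb
    induction hb₁ using Submodule.span_induction generalizing α with
    | mem c hc =>
      obtain ⟨r, hr, rfl⟩ := hc
      rw [hμalg, ← Abelian.Ext.smul_eq_comp_mk₀, hIE r hr]
    | zero => rw [← map_zero (algebraMap R B), hμalg, zero_smul]; simp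
    | add c d _ _ hc hd => rw [hμadd, Abelian.Ext.mk₀_add, Abelian.Ext.comp_add, hc, hd, add_zero]
    | smul c d _ hd =>
      rw [smul_eq_mul, mul_comm, hμmul, ← Abelian.Ext.mk₀_comp_mk₀, ← Abelian.Ext.comp_assoc_of_third_deg_zero]
      exact hd _
  have hmax : ∀ a ∈ maximalIdeal R, ∃ k, ∀ α : E, a ^ k • α = 0 := fun a ha => by
    have hab : algebraMap R B a ∈ maximalIdeal B := by
      rw [RegLocal.maximalIdeal_completion R (maximalIdeal R) (maximalIdeal.isMaximal R).ne_top]
      exact Ideal.mem_map_of_mem _ ha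
    obtain ⟨k, hk⟩ := hJ hab
    refine ⟨k, fun α => ?_⟩
    have := hA _ hk α
    rwa [← map_pow, show A (algebraMap R B (a ^ k)) α = a ^ k • α by
      change α.comp (Abelian.Ext.mk₀ (μ _)) (add_zero i) = _
      rw [hμalg, Abelian.Ext.smul_eq_comp_mk₀]] at this
  refine (GorLib.isFiniteLength_iff_of_isArtinian E).mpr fun a ha => ?_
  obtain ⟨k, hk⟩ := hmax a ha
  exact ⟨k, Module.mem_annihilator.mpr hk⟩

end Groth.Agent.TopCofinLib
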